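import Mathlib

/-!
Schur's theorem: a primitive group with a regular cyclic subgroup of order not a prime power is 2-transitive.
-/

set_option autoImplicit false
set_option linter.unusedSectionVars false

namespace CfsgLib.SchurRing

variable {G Ω : Type*} [Group G] [MulAction G Ω] {C : Subgroup G} {a : Ω}

/-- Two elements of the regular subgroup are related when the stabilizer carries one point to the other. -/
def Rel (a : Ω) (c c' : C) : Prop := ∃ h : G, h • a = a ∧ h • ((c : G) • a) = (c' : G) • a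

/-- Invariant functions. -/
def Inv (a : Ω) {R : Type*} (f : C → R) : Prop := ∀ c c' : C, Rel a c c' → f c = f c'

theorem Rel.refl (c : C) : Rel a c c := ⟨1, one_smul _ _, one_smul _ _⟩

theorem Rel.symm {c c' : C} (h : Rel a c c') : Rel a c' c := by
  obtain ⟨h, ha, hc⟩ := h
  exact ⟨h⁻¹, inv_smul_eq_iff.mpr ha.symm, inv_smul_eq_iff.mpr hc.symm⟩

theorem Rel.trans {c c' c'' : C} (h : Rel a c c') (h' : Rel a c' c'') : Rel a c c'' := by
  obtain ⟨h, ha, hc⟩ := h
  obtain ⟨k, ka, kc⟩ := h'
  exact ⟨k * h, by rw [mul_smul, ha, ka], by rw [mul_smul, hc, kc]⟩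

variable (hb : Function.Bijective fun c : C => (c : G) • a)
include hb

/-- The permutation of the regular subgroup induced by an element of the stabilizer. -/
noncomputable def move (h : G) : Equiv.Perm C :=
  ((Equiv.ofBijective _ hb).trans (MulAction.toPerm h)).trans (Equiv.ofBijective _ hb).symm

theorem move_spec (h : G) (c : C) : ((move hb h c : C) : G) • a = h • ((c : G) • a) :=
  (Equiv.ofBijective _ hb).apply_symm_apply _

theorem rel_div {h : G} {x x' : C} (hx : h • ((x : G) • a) = (x' : G) • a) (y : C) :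
    Rel a (y⁻¹ * x) ((move hb h y)⁻¹ * x') := by
  refine ⟨((move hb h y : C) : G)⁻¹ * h * y, ?_, ?_⟩
  · rw [mul_smul, mul_smul, ← move_spec hb h y, inv_smul_smul]
  · rw [mul_smul, mul_smul, ← mul_smul (y : G), Subgroup.coe_mul, Subgroup.coe_inv, mul_inv_cancel_left, hx,
      Subgroup.coe_mul, Subgroup.coe_inv, mul_smul]

theorem Rel.inv {c c' : C} (h : Rel a c c') : Rel a c⁻¹ c'⁻¹ := by
  obtain ⟨h, ha, hc⟩ := h
  have h1 : move hb h c = c' := hb.1 (by simp only [move_spec hb, hc])
  have := rel_div hb (h := h) (x := 1) (x' := 1) (by simp [ha]) c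
  rwa [h1, mul_one, mul_one] at this

theorem inv_mul [Fintype C] {R : Type*} [CommSemiring R] {u v : MonoidAlgebra R C} (hu : Inv a u.coeff)
    (hv : Inv a v.coeff) : Inv a (u * v).coeff := by
  classical
  have key : ∀ z : C, (u * v).coeff z = ∑ y : C, u.coeff y * v.coeff (y⁻¹ * z) := fun z => by
    rw [MonoidAlgebra.coeff_mul, Finsupp.sum_fintype _ _ (fun _ => by simp)]
    refine Finset.sum_congr rfl fun y _ => ?_
    rw [Finsupp.sum_fintype _ _ (fun _ => by simp)]
    simp only [show ∀ w : C, (y * w = z) ↔ (w = y⁻¹ * z) from fun w => eq_inv_mul_iff_mul_eq.symm]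
    rw [Finset.sum_ite_eq' Finset.univ, if_pos (Finset.mem_univ _)]
  intro x x' hxx'
  obtain ⟨h, ha, hx⟩ := hxx'
  rw [key, key]
  refine Fintype.sum_equiv (move hb h) _ _ fun y => ?_
  rw [hu y (move hb h y) ⟨h, ha, (move_spec hb h y).symm⟩, hv _ _ (rel_div hb hx y)]

/-- Invariant sets generate invariant subgroups. -/
theorem closure_invariant [Finite C] {U : Set C} (hU : ∀ c c', Rel a c c' → c ∈ U → c' ∈ U) :
    ∀ c c', Rel a c c' → c ∈ Subgroup.closure U → c' ∈ Subgroup.closure U := by
  intro c c' hr hc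
  induction hc using Subgroup.closure_induction generalizing c' with
  | mem z hz => exact Subgroup.subset_closure (hU z c' hr hz)
  | one =>
    obtain ⟨h, ha, h1⟩ := hr
    rw [Subgroup.coe_one, one_smul, ha] at h1
    rw [show c' = 1 from hb.1 (by simp [← h1])]
    exact one_mem _
  | mul y z hy hz ihy ihz =>
    obtain ⟨h, ha, hyz⟩ := hr
    have h1 := ihy _ ⟨h, ha, (move_spec hb h y).symm⟩
    have h2 := rel_div hb hyz y
    rw [inv_mul_cancel_left] at h2
    have h3 := mul_mem h1 (ihz _ h2)
    rwa [mul_inv_cancel_left] at h3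
  | inv z hz ih =>
    have h1 := Rel.inv hb hr
    rw [inv_inv] at h1
    simpa using inv_mem (ih _ h1)

/-- In a primitive group an invariant subgroup of the regular subgroup is trivial. -/
theorem eq_bot_of_invariant (hH : IsCoatom (MulAction.stabilizer G a)) {D : Subgroup C} (hD : D ≠ ⊤)
    (hinv : ∀ c c', Rel a c c' → c ∈ D → c' ∈ D) [Finite C] : D = ⊥ := by
  classical
  let K : Subgroup G :=
    { carrier := {u | ∀ c ∈ D, ∃ d ∈ D, u • ((c : G) • a) = (d : G) • a}
      one_mem' := fun c hc => ⟨c, hc, one_smul _ _⟩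
      mul_mem' := fun {u v} hu hv c hc => by
        obtain ⟨d, hd, e⟩ := hv c hc
        obtain ⟨d', hd', e'⟩ := hu d hd
        exact ⟨d', hd', by rw [mul_smul, e, e']⟩
      inv_mem' := fun {u} hu c hc => by
        choose f hf hfe using fun d : D => hu d d.2
        have hinj : Function.Injective fun d : D => (⟨f d, hf d⟩ : D) := fun d d' e => by
          refine Subtype.ext (hb.1 (smul_left_cancel u ?_))
          change u • (((d : C) : G) • a) = u • (((d' : C) : G) • a)
          rw [hfe, hfe, show f d = f d' from congrArg Subtype.val e]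
        obtain ⟨d, hd⟩ := Finite.injective_iff_surjective.mp hinj (⟨c, hc⟩ : D)
        refine ⟨d, d.2, inv_smul_eq_iff.mpr ?_⟩
        rw [hfe, show f d = c from congrArg Subtype.val hd] }
  have hle : MulAction.stabilizer G a ≤ K := fun h ha c hc =>
    ⟨move hb h c, hinv c _ ⟨h, ha, (move_spec hb h c).symm⟩ hc, (move_spec hb h c).symm⟩
  have hDK : ∀ d ∈ D, (d : G) ∈ K := fun d hd c hc =>
    ⟨d * c, mul_mem hd hc, by rw [Subgroup.coe_mul, mul_smul]⟩
  rcases hle.eq_or_lt with he | hlt
  · refine (Subgroup.eq_bot_iff_forall D).mpr fun d hd => hb.1 ?_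
    have := hDK d hd
    rw [← he, MulAction.mem_stabilizer_iff] at this
    simpa using this
  · exfalso
    refine hD ((Subgroup.eq_top_iff' D).mpr fun c => ?_)
    have hcK : (c : G) ∈ K := (hH.2 K hlt) ▸ Subgroup.mem_top _
    obtain ⟨d, hd, e⟩ := hcK 1 (one_mem D)
    rw [Subgroup.coe_one, one_smul] at e
    rwa [hb.1 e]

/-- Points outside the kernel of the `p`-th power come in full cosets of that kernel. -/
theorem coset_subset [Finite G] [IsCyclic C] (hH : IsCoatom (MulAction.stabilizer G a)) {p : ℕ} [hp : Fact p.Prime]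
    (hpn : p ∣ Nat.card C) {c₀ x z : C} (hc₀ : c₀ ≠ 1) (hx : Rel a c₀ x) (hxp : x ^ p ≠ 1) (hz : z ^ p = 1) :
    Rel a c₀ (x * z) := by
  classical
  letI : Fintype C := Fintype.ofFinite C
  letI : CommGroup C := IsCyclic.commGroup
  by_contra hxz
  let T : Finset C := Finset.univ.filter fun c => Rel a c₀ c
  let u : MonoidAlgebra (ZMod p) C := ∑ t ∈ T, MonoidAlgebra.single t 1
  have hu : ∀ c, u.coeff c = if Rel a c₀ c then 1 else 0 := fun c => by
    simp only [u, MonoidAlgebra.coeff_sum, Finsupp.finsetSum_apply, MonoidAlgebra.coeff_single, Finsupp.single_apply,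
      Finset.sum_ite_eq', T, Finset.mem_filter, Finset.mem_univ, true_and]
  have huI : Inv a u.coeff := fun c c' h => by
    rw [hu, hu]
    exact if_congr ⟨fun h' => h'.trans h, fun h' => h'.trans h.symm⟩ rfl rfl
  have hpow : ∀ k : ℕ, Inv a (u ^ (k + 1)).coeff := fun k => by
    induction k with
    | zero => rwa [pow_one]
    | succ k ih => rw [pow_succ]; exact inv_mul hb ih huI
  have hI : Inv a (u ^ p).coeff := by
    have := hpow (p - 1)
    rwa [Nat.sub_add_cancel hp.out.one_le] at this
  haveI : CharP (MonoidAlgebra (ZMod p) C) p :=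
    charP_of_injective_algebraMap (algebraMap (ZMod p) (MonoidAlgebra (ZMod p) C)).injective p
  have hcoef : ∀ y : C, (u ^ p).coeff y = ((T.filter fun t => t ^ p = y).card : ZMod p) := fun y => by
    rw [sum_pow_char]
    simp only [MonoidAlgebra.single_pow, one_pow, MonoidAlgebra.coeff_sum, Finsupp.finsetSum_apply,
      MonoidAlgebra.coeff_single, Finsupp.single_apply, Finset.sum_boole]
  -- the coefficient at `x ^ p` is not a multiple of `p`
  set A := T.filter fun t => t ^ p = x ^ p
  have hApos : 0 < A.card := Finset.card_pos.mpr ⟨x, by simp [A, T, hx]⟩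
  have hlt : A.card < p := by
    let B : Finset C := Finset.univ.filter fun w => w ^ p = 1
    have hB : B.card ≤ p := IsCyclic.card_pow_eq_one_le (α := C) hp.out.pos
    have hsub : A.image (fun t => x⁻¹ * t) ⊆ B.erase z := by
      intro w hw
      obtain ⟨t, ht, rfl⟩ := Finset.mem_image.mp hw
      simp only [A, T, Finset.mem_filter, Finset.mem_univ, true_and] at ht
      refine Finset.mem_erase.mpr ⟨fun e => hxz ?_, ?_⟩
      · rw [← e, mul_inv_cancel_left]; exact ht.1
      · simp only [B, Finset.mem_filter, Finset.mem_univ, true_and]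
        rw [mul_pow, inv_pow, ht.2, inv_mul_cancel]
    have h1 := Finset.card_le_card hsub
    rw [Finset.card_image_of_injective _ (mul_right_injective _),
      Finset.card_erase_of_mem (by simp [B, hz])] at h1
    omega
  let U : Set C := {y | y ≠ 1 ∧ (u ^ p).coeff y ≠ 0}
  have hU : ∀ c c', Rel a c c' → c ∈ U → c' ∈ U := fun c c' hr hc => by
    refine ⟨fun e => hc.1 ?_, hI c c' hr ▸ hc.2⟩
    obtain ⟨h, ha, h1⟩ := hr.symm
    rw [e, Subgroup.coe_one, one_smul, ha] at h1
    exact hb.1 (by simp [← h1])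
  have hxU : x ^ p ∈ U := by
    refine ⟨hxp, ?_⟩
    rw [hcoef]
    intro h0
    have := Nat.le_of_dvd hApos ((ZMod.natCast_eq_zero_iff _ _).mp h0)
    omega
  have hD : Subgroup.closure U ≠ ⊤ := by
    intro htop
    have hle : Subgroup.closure U ≤ (powMonoidHom p : C →* C).range := by
      rw [Subgroup.closure_le]
      intro y hy
      have h2 := hy.2
      rw [hcoef] at h2
      obtain ⟨t, ht⟩ := Finset.card_ne_zero.mp (fun e => h2 (by rw [e, Nat.cast_zero]))
      exact ⟨t, (Finset.mem_filter.mp ht).2⟩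
    rw [htop, top_le_iff, MonoidHom.range_eq_top] at hle
    obtain ⟨w, hw⟩ := exists_prime_orderOf_dvd_card' p hpn
    have hw1 : w = 1 := (Finite.injective_iff_surjective.mpr hle) (by
      change w ^ p = 1 ^ p
      rw [one_pow, ← hw, pow_orderOf_eq_one])
    rw [hw1, orderOf_one] at hw
    exact hp.out.one_lt.ne hw
  have hbot := eq_bot_of_invariant hb hH hD (closure_invariant hb hU)
  exact hxp ((Subgroup.eq_bot_iff_forall _).mp hbot _ (Subgroup.subset_closure hxU))

/-- Every nontrivial suborbit meets the subgroup of order `p`. -/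
theorem meets [Finite G] [IsCyclic C] (hH : IsCoatom (MulAction.stabilizer G a)) {p : ℕ} [hp : Fact p.Prime]
    (hpn : p ∣ Nat.card C) {c₀ : C} (hc₀ : c₀ ≠ 1) : ∃ x : C, Rel a c₀ x ∧ x ^ p = 1 := by
  classical
  by_contra hcon
  push Not at hcon
  haveI : Finite C := inferInstance
  let S : Submonoid C :=
    { carrier := {g | ∀ t, Rel a c₀ t → Rel a c₀ (t * g)}
      one_mem' := fun t ht => by rwa [mul_one]
      mul_mem' := fun {g g'} hg hg' t ht => by rw [← mul_assoc]; exact hg' _ (hg t ht) }
  have hS : ∀ c c', Rel a c c' → c ∈ (S : Set C) → c' ∈ (S : Set C) := fun g g' hr hg t' ht' => by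
    obtain ⟨h, ha, hgg⟩ := hr
    set y := (move hb h).symm t'⁻¹ with hy
    have hy' : move hb h y = t'⁻¹ := Equiv.apply_symm_apply _ _
    have h1 : Rel a y t'⁻¹ := ⟨h, ha, by rw [← move_spec hb, hy']⟩
    have h2 : Rel a y⁻¹ t' := by simpa using Rel.inv hb h1
    have h3 : Rel a c₀ (y⁻¹ * g) := hg _ (ht'.trans h2.symm)
    have h4 := rel_div hb hgg y
    rw [hy', inv_inv] at h4
    exact h3.trans h4
  let D : Subgroup C := Subgroup.closure (S : Set C)
  have hDS : ∀ g, g ∈ D → g ∈ S := fun g hg => by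
    induction hg using Subgroup.closure_induction with
    | mem z hz => exact hz
    | one => exact one_mem S
    | mul y z _ _ hy hz => exact mul_mem hy hz
    | inv z _ hz =>
      have h1 := pow_mem hz (orderOf z - 1)
      rwa [← inv_eq_of_mul_eq_one_right (show z * z ^ (orderOf z - 1) = 1 by
        rw [← pow_succ', Nat.sub_add_cancel (orderOf_pos z), pow_orderOf_eq_one])] at h1
  have hD : D ≠ ⊤ := fun htop => by
    have := hDS c₀⁻¹ (htop ▸ Subgroup.mem_top _) c₀ (Rel.refl c₀)
    rw [mul_inv_cancel] at this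
    obtain ⟨h, ha, h1⟩ := this.symm
    rw [Subgroup.coe_one, one_smul, ha] at h1
    exact hc₀ (hb.1 (by simp [← h1]))
  have hbot := eq_bot_of_invariant hb hH hD (closure_invariant hb hS)
  obtain ⟨w, hw⟩ := exists_prime_orderOf_dvd_card' p hpn
  have hwS : w ∈ S := fun t ht => coset_subset hb hH hpn hc₀ ht (hcon t ht) (hw ▸ pow_orderOf_eq_one w)
  have : w = 1 := (Subgroup.eq_bot_iff_forall _).mp hbot _ (Subgroup.subset_closure hwS)
  rw [this, orderOf_one] at hw
  exact hp.out.one_lt.ne hw

/-- All nontrivial elements lie in one suborbit. -/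
theorem rel_of_ne [Finite G] [IsCyclic C] (hH : IsCoatom (MulAction.stabilizer G a)) {p r : ℕ} [hp : Fact p.Prime]
    [hr : Fact r.Prime] (hpr : p ≠ r) (hpn : p ∣ Nat.card C) (hrn : r ∣ Nat.card C) {c : C} (hc : c ≠ 1) {y z : C}
    (hy : y ^ p = 1) (hy1 : y ≠ 1) (hz : z ^ r = 1) (hz1 : z ≠ 1) : Rel a c z := by
  letI : CommGroup C := IsCyclic.commGroup
  have hcop : Nat.Coprime p r := (Nat.coprime_primes hp.out hr.out).mpr hpr
  have hne : ∀ {w : C}, w ^ p = 1 → w ^ r = 1 → w = 1 := fun {w} h1 h2 => by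
    rw [← pow_one w, ← hcop.gcd_eq_one]
    exact pow_gcd_eq_one.mpr ⟨h1, h2⟩
  obtain ⟨x, hx, hxp⟩ := meets hb hH hpn hc
  have hx1 : x ≠ 1 := fun e => by
    subst e
    obtain ⟨h, ha, h1⟩ := hx.symm
    rw [Subgroup.coe_one, one_smul, ha] at h1
    exact hc (hb.1 (by simp [← h1]))
  -- the `r`-coset of `x`, then the `p`-coset of `x * z`
  have h1 : Rel a c (x * z) := coset_subset hb hH hrn hc hx (fun e => hx1 (hne hxp e)) hz
  have h2 : Rel a c (x * z * x⁻¹) := coset_subset hb hH hpn hc h1 (fun e => hz1 (hne (by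
    rwa [mul_pow, hxp, one_mul] at e) hz)) (by rw [inv_pow, hxp, inv_one])
  rwa [mul_comm x z, mul_inv_cancel_right] at h2

end CfsgLib.SchurRing
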